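set_option autoImplicit false
namespace Cfsg.Agent.Lib.Helper6.TCD.ONC
noncomputable def NC (i : Nat) : Nat := Nat.land (Nat.shiftRight 0x4000280000b9800018000a0000500016d400006000010000600000c4000180001c000140001370000500005000240001b9800014000040007c000135000050000000029000068c00014000040003000016100005000000000500004c0000140000c000200000f7000040001f000140005858000100000c0001800003500004000040001f000049000010000080001400012200004000050000c000058400010000300001400229000004000020000700000d80000c000080001800003500003000040000800003900000c000080001000003300003000000000800003c40000c000000000c00003000003000060000200000d800008000480002800105500002000040000200000d000008000040001400012300002000020000200000dc000040000c000a00002f600001000010001200001d4000040000c0004800007400001000040000600000cc000040001c0000800003200001000010000200000c000004000080000400003700000000030001f00004d8000000000400038000075000000000400012000019000000000000002c001713000000000300006000064800000000140004800007100000000050000d00000c000000000000000000000000000 (Nat.mul 86 (Nat.land i 511))) 77371252455336267181195263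
end Cfsg.Agent.Lib.Helper6.TCD.ONC
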