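set_option autoImplicit false
namespace Cfsg.Agent.Lib.Helper6.TCD.ONC
noncomputable def NH (i : Nat) : Nat := Nat.land (Nat.shiftRight 0x45800030000890000b00011c0000400029c00080000390000280006f0001b00011a000020002840001000052000020000b0000160000dc000080002400001000038800090000a6000170001440002000025c00030000398000180008f000030001660002c0002d80000c000578000a0000b8000000001580000000026c0000400055800020000a50000400015400006000228000040004e0000000009d000050001220000a0002b40002000054800000000ae000030000e000000000230000000004f000020000b50000000016e0000000027c0000000050000000000b900000 (Nat.mul 43 (Nat.land i 1023))) 8796093022207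
end Cfsg.Agent.Lib.Helper6.TCD.ONC
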