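set_option autoImplicit false
namespace Cfsg.Agent.Lib.Helper6.TCD.ONC
noncomputable def SC (i : Nat) : Nat := Nat.land (Nat.shiftRight 0x10001e0080023802000000000000000000000000022402000000000006c020000000000000010000001000000000000000000000000000000000000000000000000000000000000000000000000000000000010000000400000000000000000070020000000000000000000000000000000000000000000010008800800068020000000000000000000000000000000000000000000000000000400000000000000000000000000000000000040000000000000000000000000000000000000400000000000001000000000000000000000000000000000000000000000000000000000000000000010000000000000000000000000000000000000000000000000000400000000000000400000000000000000098030001600800000000000000000000000000000000000010000000000068020001400800000000009000800000000000000000000000000000400000000001200800000000000000000000000000000000230020000000000000010000000000000000000000000000000000000000000000000000000000000000000000000010000000000000000000000000000000000001000000000000000000000000000000000000010000000000000000000000000000000000000000000000000000400000000000000000000010000000000000000000000000030020000000000000000000000000000000000000400000000000000000028020000000000000000000000000000000000000000000010000000000020020000000000000000002000c0000000000000000008003000000040005c0300000000000000000000000000000000000000000000000000000000000000027008000000100000000000000000000000000000000000000000000000000004000a402000000000000001000000000000000000000000000000000000000000000000000000000004000000040000004000000100000000000900080000000000000000000000000000000000001000000000000000000000000000000000000000000000000130080000000000000040000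000000000000006c030000000400000000000000000000000000000000038020000000000000000000000000000010000000000000000001400800000000000001000000000000000000000000000000400000000000000000000000000000000000040000000000054020000001000000010001000800000000001a00c00000000000000000000040000000000000040000000400000000000000000000000002500800000000000000000000000000000000000010000000000000000002a008000000000000000000000000000000000000400000004000a002000000040000000000000000000004000000100003802000000100000004000000000000001000000000000004000000100000004000000000000000000000000000000000000040000000000000100000004000000000022402000000000000000000000000000001000000000000004000000000000000000000000000000000000000000000000000040000000000000000000000000000100000000000000000000000000000000000001000000000000000000000100000000000000000000000000000000000004000000100000001000000000000000000000000000000000000000000000000000040000000000000000000000000000000000000000000000000000000000000000000 (Nat.mul 30 (Nat.land i 1023))) 1073741823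
end Cfsg.Agent.Lib.Helper6.TCD.ONC
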