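import Cfsg.Agent.Lib.Helper6.TCD.ONC.SH
import Cfsg.Agent.Lib.Helper6.TCD.ONC.SC
import Cfsg.Agent.Lib.Helper6.TCD.ONC.NH
import Cfsg.Agent.Lib.Helper6.TCD.ONC.NC
import Cfsg.Agent.Lib.Helper6.TCD.ONC.WD
import Cfsg.Agent.Lib.Helper6.TCD.ONC.WI
set_option autoImplicit false
namespace Cfsg.Agent.Lib.Helper6.TCD.ONC
def n : Nat := 42
def ncol : Nat := 8
def nrw : Nat := 148
def nw : Nat := 148
def tmax : Nat := 185
def INV : Nat := 1985229313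
def N : Nat := 1
end Cfsg.Agent.Lib.Helper6.TCD.ONC
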