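set_option autoImplicit false
namespace Cfsg.Agent.Lib.Helper6.TCD.ONC
noncomputable def SH (i : Nat) : Nat := Nat.land (Nat.shiftRight 0x172000000001fc0001800040000148000810000b000172000000002e4000000005c800000000870000e0001720000000020c0002c0005c8000000007d0000600010c0001c0002e4000000005c800000000b900000000172000000002e4000000005c800000000b900000000172000000002e4000000005c8000000007b000060000ee0000a0002e4000000005c8000000007800008000172000000002e4000000005c800000000b9000000001720000000019c00014000350000d80006800007000172000000002e4000000005c800000000b900000000172000000002e40000000032800028000b900000000172000000002e4000000005c8000000006d0001f000172000000002e4000000005c800000000b9000000000c60000a0002e4000000003a800030000b900000000172000000002e4000000005c800000000b900000000172000000002e4000000005c8000000006100005000172000000002e4000000005c800000000b900000000172000000002e4000000002f800028000b9000000000b6000080002e4000000005c800000000a8000080000b8000100002e4000000005c800000000b90000000017200000000154000100005c80000000058000120000ac0000e0002e40000000036000120000b900000000172000000002e40000000028800020000b9000000000a40000c0002e4000000005c800000000b90000000017200000000138000480005c8000000004d00004000172000000002e4000000005c800000000b900000000172000000002e4000000005c800000000b9000000001720000000012c000100005c800000000b900000000172000000002e40000000035800128000b900000000172000000002e4000000005c8000000004900004000172000000002e4000000005c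800000000b900000000172000000002e40000000023800020000b9000000001720000000010c0000c0005c800000000b900000000172000000001100001c0005c800000000b900000000172000000002e4000000001f800018000b90000000017200000000100000180005c800000000b900000000172000000002e4000000005c8000000003b00003000172000000000f0000140005c800000000b900000000164000080002e4000000005c800000000b100003000072000060002d0000100005c800000000b900000000172000000002e4000000005c800000000b900000000172000000002e4000000001b0000400003500003000172000000002e4000000005c800000000b900000000172000000002e400000000188000180003200008000172000000000bc000080005c800000000b900000000172000000002e4000000005c800000000b9000000001720000000013c0007400016800010000590001f000126000180002e4000000004c800068000b900000000172000000002e4000000005c8000000002b00002000172000000002e4000000005c800000000b900000000172000000002e4000000004a000060000b900000000052000040002e4000000005c800000000a30000400004a000020002e4000000005c800000000b90000000017200000000098000080005c800000000b9000000001720000000008c000040005c800000000b90000000010a000500002e40000000044000148000b900000000172000000002e40000000010800008000b900000000172000000002e4000000005c8000000009a0001200017200000000258000300004a8000800001f00001000124000240002e4000000004c000020000b90000000017200000000210000a00005c800000000820002900003a000020002e4000000005c800000000b900000000034000040002e4000000005c800000000b90000000017200000000064000040005c800000000b900000000024000060002e4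000000005c800000000b900000000172000000000540002000008800008000160000200001e000000002e4000000005c80000000079000260000ba0004000005000024000198000a0000370001500017200000000034000000005c80000000069000250000ae0003e000114000640005c800000000b900000000172000000001f8000a4000058000000007c000280000a60003c000104000600003d00013800074000230000ec0004c000198000940003200012000009000000000c4000460000f40005c000300001100005e000210000b4000400001500007c000280000f00004c0001d00000e0000000012800070000240000d8000460001a00002600012000108000640001f0000c00003a000170000700002c000014000000001a0000a80003000014000036000140000b80004c000160000900002a000110000500002000009c0003c0000b80004800003000000000480001e00008800038000100000680001e0000c000038000160000600002800000800000000100000900001c000100000300001c00005000030000080000500000c000080000100000c000010000100000000001 (Nat.mul 43 (Nat.land i 1023))) 8796093022207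
end Cfsg.Agent.Lib.Helper6.TCD.ONC
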